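import Cfsg.Prelude.Def_PLocal
import Cfsg.Prelude.Def_LocalEven
import Cfsg.Agent.Inv54.SylowLift
import Mathlib.GroupTheory.Perm.ViaEmbedding
import Mathlib.GroupTheory.SpecificGroups.Alternating
import Mathlib.Tactic

/-!
`Qd(p)` and alternating groups: for odd `p` it embeds in `Aₙ` iff `p² ≤ n`, and is not involved in
smaller alternating groups because their `p`-subgroups are abelian.
-/

namespace CfsgLib.QdPerm

open Matrix
open scoped commutatorElement

variable {p : ℕ} [Fact p.Prime]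

/-- The matrices with last row `(0,0,1)`. -/
def affineSubgroup (p : ℕ) [Fact p.Prime] : Subgroup (SpecialLinearGroup (Fin 3) (ZMod p)) where
  carrier := {M | (M : Matrix (Fin 3) (Fin 3) (ZMod p)) 2 0 = 0 ∧
    (M : Matrix (Fin 3) (Fin 3) (ZMod p)) 2 1 = 0 ∧ (M : Matrix (Fin 3) (Fin 3) (ZMod p)) 2 2 = 1}
  one_mem' := by simp
  mul_mem' := by
    intro a b ha hb
    obtain ⟨a0, a1, a2⟩ := ha
    obtain ⟨b0, b1, b2⟩ := hb
    simp [Matrix.mul_apply, Fin.sum_univ_three, a0, a1, a2, b0, b1, b2]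
  inv_mem' := by
    intro a ha
    obtain ⟨a0, a1, a2⟩ := ha
    have h : ((a⁻¹ : SpecialLinearGroup (Fin 3) (ZMod p)) : Matrix (Fin 3) (Fin 3) (ZMod p)) =
        adjugate (a : Matrix (Fin 3) (Fin 3) (ZMod p)) := rfl
    have hd : (a : Matrix (Fin 3) (Fin 3) (ZMod p)).det = 1 := a.2
    rw [det_fin_three, a0, a1, a2] at hd
    simp [h, adjugate_fin_three, a0, a1]
    linear_combination hd

theorem qd_eq : Cfsg.qd p = affineSubgroup p := Subgroup.closure_eq (affineSubgroup p)

/-- An affine matrix from its six free entries. -/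
def mk (a b c d x y : ZMod p) (h : a * d - b * c = 1) : SpecialLinearGroup (Fin 3) (ZMod p) :=
  ⟨!![a, b, x; c, d, y; 0, 0, 1], by simp [det_fin_three]; linear_combination h⟩

theorem mk_mem (a b c d x y : ZMod p) (h : a * d - b * c = 1) :
    mk a b c d x y h ∈ affineSubgroup p := by
  refine ⟨?_, ?_, ?_⟩ <;> simp [mk]

theorem mk_mul (a b c d x y : ZMod p) (h : a * d - b * c = 1)
    (a' b' c' d' x' y' : ZMod p) (h' : a' * d' - b' * c' = 1) :
    mk a b c d x y h * mk a' b' c' d' x' y' h' =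
      mk (a * a' + b * c') (a * b' + b * d') (c * a' + d * c') (c * b' + d * d')
        (a * x' + b * y' + x) (c * x' + d * y' + y)
        (by linear_combination (a' * d' - b' * c') * h + h') := by
  apply Matrix.SpecialLinearGroup.ext
  intro i j
  change ((mk a b c d x y h).1 * (mk a' b' c' d' x' y' h').1) i j = _
  fin_cases i <;> fin_cases j <;> simp [mk, Matrix.mul_apply, Fin.sum_univ_three]

theorem mk_congr {a b c d x y a' b' c' d' x' y' : ZMod p} {h : a * d - b * c = 1}
    {h' : a' * d' - b' * c' = 1} (ea : a = a') (eb : b = b') (ec : c = c') (ed : d = d')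
    (ex : x = x') (ey : y = y') : mk a b c d x y h = mk a' b' c' d' x' y' h' := by
  subst ea eb ec ed ex ey; rfl

theorem exists_eq_mk {M : SpecialLinearGroup (Fin 3) (ZMod p)} (hM : M ∈ affineSubgroup p) :
    ∃ (a b c d x y : ZMod p) (h : a * d - b * c = 1), M = mk a b c d x y h := by
  obtain ⟨m0, m1, m2⟩ := hM
  have hd : (M : Matrix (Fin 3) (Fin 3) (ZMod p)).det = 1 := M.2
  rw [det_fin_three, m0, m1, m2] at hd
  refine ⟨M.1 0 0, M.1 0 1, M.1 1 0, M.1 1 1, M.1 0 2, M.1 1 2, by linear_combination hd, ?_⟩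
  apply Subtype.ext
  ext i j
  fin_cases i <;> fin_cases j <;> simp [mk, m0, m1, m2]

/-- For odd `p`, a homomorphism to `ℤˣ` kills every affine matrix. -/
theorem hom_units_eq_one (hp : p ≠ 2) (f : ↥(Cfsg.qd p) →* ℤˣ) (M : ↥(Cfsg.qd p)) : f M = 1 := by
  have h2 : (2 : ZMod p) ≠ 0 := by
    intro h
    have : ((2 : ℕ) : ZMod p) = 0 := by exact_mod_cast h
    rw [ZMod.natCast_eq_zero_iff] at this
    exact hp ((Nat.prime_dvd_prime_iff_eq Fact.out Nat.prime_two).mp this)
  let K : Subgroup (SpecialLinearGroup (Fin 3) (ZMod p)) := f.ker.map (Cfsg.qd p).subtype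
  have hsq : ∀ X ∈ affineSubgroup p, X * X ∈ K := by
    intro X hX
    rw [← qd_eq] at hX
    refine ⟨⟨X, hX⟩ * ⟨X, hX⟩, ?_, rfl⟩
    rw [SetLike.mem_coe, MonoidHom.mem_ker, map_mul]
    exact Int.units_mul_self _
  have hU : ∀ t : ZMod p, mk 1 t 0 1 0 0 (by ring) ∈ K := by
    intro t
    have := hsq (mk 1 (t / 2) 0 1 0 0 (by ring)) (mk_mem ..)
    rw [mk_mul] at this
    convert this using 1
    exact mk_congr (by ring) (by field_simp; ring) (by ring) (by ring) (by ring) (by ring)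
  have hL : ∀ t : ZMod p, mk 1 0 t 1 0 0 (by ring) ∈ K := by
    intro t
    have := hsq (mk 1 0 (t / 2) 1 0 0 (by ring)) (mk_mem ..)
    rw [mk_mul] at this
    convert this using 1
    exact mk_congr (by ring) (by ring) (by field_simp; ring) (by ring) (by ring) (by ring)
  have hT : ∀ s t : ZMod p, mk 1 0 0 1 s t (by ring) ∈ K := by
    intro s t
    have := hsq (mk 1 0 0 1 (s / 2) (t / 2) (by ring)) (mk_mem ..)
    rw [mk_mul] at this
    convert this using 1
    exact mk_congr (by ring) (by ring) (by ring) (by ring) (by field_simp; ring) (by field_simp; ring)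
  have hc : ∀ (a b c d : ZMod p) (h : a * d - b * c = 1), c ≠ 0 → mk a b c d 0 0 h ∈ K := by
    intro a b c d h hcne
    have := mul_mem (mul_mem (hU ((a - 1) / c)) (hL c)) (hU ((d - 1) / c))
    rw [mk_mul, mk_mul] at this
    convert this using 1
    refine mk_congr ?_ ?_ ?_ ?_ ?_ ?_ <;> field_simp <;>
      first | linear_combination h | linear_combination -h | ring
  have hall : ∀ (a b c d : ZMod p) (h : a * d - b * c = 1), mk a b c d 0 0 h ∈ K := by
    intro a b c d h
    by_cases hcz : c = 0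
    · have hd : c + d ≠ 0 := by
        intro e
        rw [hcz, zero_add] at e
        rw [e, hcz] at h
        simp at h
      have := mul_mem (hc (a + b) b (c + d) d (by linear_combination h) hd) (hL (-1))
      rw [mk_mul] at this
      convert this using 1
      exact mk_congr (by ring) (by ring) (by ring) (by ring) (by ring) (by ring)
    · exact hc a b c d h hcz
  obtain ⟨a, b, c, d, x, y, h, hM⟩ := exists_eq_mk (M := (M : SpecialLinearGroup (Fin 3) (ZMod p)))
    (qd_eq (p := p) ▸ M.2)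
  have := mul_mem (hT x y) (hall a b c d h)
  rw [mk_mul] at this
  obtain ⟨N, hN, hNM⟩ := this
  have hNM' : N = M := by
    apply Subtype.ext
    rw [hM]
    exact hNM.trans (mk_congr (by ring) (by ring) (by ring) (by ring) (by ring) (by ring))
  exact hNM' ▸ hN

/-- The points of the affine plane. -/
abbrev Pt (p : ℕ) : Type := ZMod p × ZMod p

/-- The permutation of the plane induced by an affine matrix. -/
def act (M : SpecialLinearGroup (Fin 3) (ZMod p)) (v : Pt p) : Pt p :=
  (M.1 0 0 * v.1 + M.1 0 1 * v.2 + M.1 0 2, M.1 1 0 * v.1 + M.1 1 1 * v.2 + M.1 1 2)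

theorem act_mul {M N : SpecialLinearGroup (Fin 3) (ZMod p)} (hM : M ∈ affineSubgroup p)
    (hN : N ∈ affineSubgroup p) (v : Pt p) : act (M * N) v = act M (act N v) := by
  obtain ⟨a, b, c, d, x, y, h, rfl⟩ := exists_eq_mk hM
  obtain ⟨a', b', c', d', x', y', h', rfl⟩ := exists_eq_mk hN
  rw [mk_mul]
  simp [act, mk]
  constructor <;> ring

/-- The plane action as a homomorphism. -/
noncomputable def actHom (p : ℕ) [Fact p.Prime] : ↥(Cfsg.qd p) →* Equiv.Perm (Pt p) :=
  MonoidHom.mk' (fun M =>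
    { toFun := act M.1
      invFun := act (M⁻¹).1
      left_inv := fun v => by
        rw [← act_mul (qd_eq (p := p) ▸ (M⁻¹).2) (qd_eq (p := p) ▸ M.2)]
        simp [act]
      right_inv := fun v => by
        rw [← act_mul (qd_eq (p := p) ▸ M.2) (qd_eq (p := p) ▸ (M⁻¹).2)]
        simp [act] })
    (fun M N => Equiv.ext fun v => act_mul (qd_eq (p := p) ▸ M.2) (qd_eq (p := p) ▸ N.2) v)

theorem actHom_injective : Function.Injective (actHom p) := by
  rw [injective_iff_map_eq_one]
  intro M hM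
  obtain ⟨a, b, c, d, x, y, h, hMe⟩ := exists_eq_mk (M := (M : SpecialLinearGroup (Fin 3) (ZMod p)))
    (qd_eq (p := p) ▸ M.2)
  have h0 : act (M : SpecialLinearGroup (Fin 3) (ZMod p)) (0, 0) = (0, 0) :=
    Equiv.congr_fun hM (0, 0)
  have h1 : act (M : SpecialLinearGroup (Fin 3) (ZMod p)) (1, 0) = (1, 0) :=
    Equiv.congr_fun hM (1, 0)
  have h2 : act (M : SpecialLinearGroup (Fin 3) (ZMod p)) (0, 1) = (0, 1) :=
    Equiv.congr_fun hM (0, 1)
  rw [hMe] at h0 h1 h2
  simp [act, mk] at h0 h1 h2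
  obtain ⟨rfl, rfl⟩ := h0
  simp at h1 h2
  obtain ⟨rfl, rfl⟩ := h1
  obtain ⟨rfl, rfl⟩ := h2
  apply Subtype.ext
  rw [hMe]
  apply Subtype.ext
  ext i j
  fin_cases i <;> fin_cases j <;> simp [mk]

theorem exists_le_of_sq_le (hp : p ≠ 2) {n : ℕ} (hn : p ^ 2 ≤ n) :
    ∃ H : Subgroup (alternatingGroup (Fin n)), Nonempty (↥H ≃* ↥(Cfsg.qd p)) := by
  classical
  have hc : Fintype.card (Pt p) ≤ Fintype.card (Fin n) := by
    simpa [Fintype.card_prod, ZMod.card, sq] using hn
  obtain ⟨e⟩ := Function.Embedding.nonempty_of_card_le hc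
  let φ : ↥(Cfsg.qd p) →* Equiv.Perm (Fin n) := (Equiv.Perm.viaEmbeddingHom e).comp (actHom p)
  have hinj : Function.Injective φ :=
    (Equiv.Perm.viaEmbeddingHom_injective e).comp actHom_injective
  let ψ : ↥(Cfsg.qd p) →* alternatingGroup (Fin n) := φ.codRestrict _ fun M =>
    Equiv.Perm.mem_alternatingGroup.mpr (hom_units_eq_one hp (Equiv.Perm.sign.comp φ) M)
  have hψ : Function.Injective ψ := fun a b h => hinj (congrArg Subtype.val h)
  exact ⟨ψ.range, ⟨(MonoidHom.ofInjective hψ).symm⟩⟩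

/-- A `p`-group of permutations of fewer than `p²` points is abelian. -/
theorem commute_of_lt_sq {α : Type*} [Finite α] (hα : Nat.card α < p ^ 2)
    {P : Subgroup (Equiv.Perm α)} (hP : IsPGroup p P) (x y : P) : x * y = y * x := by
  classical
  rw [← commutatorElement_eq_one_iff_mul_comm]
  apply Subtype.ext
  apply Equiv.ext
  intro i
  change (⁅x, y⁆ : P) • i = i
  obtain ⟨k, hk⟩ := hP.index (MulAction.stabilizer P i)
  have hle : (MulAction.stabilizer P i).index ≤ Nat.card α := by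
    rw [MulAction.index_stabilizer, ← Set.ncard_univ]
    exact Set.ncard_le_ncard (Set.subset_univ _) (Set.toFinite _)
  have hk2 : k < 2 := (Nat.pow_lt_pow_iff_right (Fact.out : p.Prime).one_lt).mp
    (hk ▸ hle.trans_lt hα)
  suffices ⁅x, y⁆ ∈ MulAction.stabilizer P i from this
  rcases Nat.lt_succ_iff_lt_or_eq.mp hk2 with h0 | h1
  · rw [Nat.lt_one_iff.mp h0, pow_zero] at hk
    rw [Subgroup.index_eq_one.mp hk]
    trivial
  · rw [h1, pow_one] at hk
    set S := MulAction.stabilizer P i with hS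
    haveI hn : S.Normal := by
      obtain ⟨m, hm⟩ := IsPGroup.iff_card.mp hP
      refine Subgroup.normal_of_index_eq_minFac_card ?_
      rcases Nat.eq_zero_or_pos m with rfl | hm0
      · exfalso
        have h := S.index_dvd_card
        rw [hk, hm, pow_zero] at h
        exact (Fact.out : p.Prime).ne_one (Nat.dvd_one.mp h)
      · rw [hk, hm, Nat.pow_minFac hm0.ne', (Fact.out : p.Prime).minFac_eq]
    haveI : IsCyclic (P ⧸ S) := isCyclic_of_prime_card (p := p) (by rw [← Subgroup.index_eq_card, hk])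
    rw [← QuotientGroup.eq_one_iff]
    change QuotientGroup.mk' S ⁅x, y⁆ = 1
    rw [map_commutatorElement, commutatorElement_eq_one_iff_mul_comm]
    obtain ⟨g, hg⟩ := IsCyclic.exists_generator (α := P ⧸ S)
    obtain ⟨a, ha⟩ := Subgroup.mem_zpowers_iff.mp (hg (QuotientGroup.mk' S x))
    obtain ⟨b, hb⟩ := Subgroup.mem_zpowers_iff.mp (hg (QuotientGroup.mk' S y))
    rw [← ha, ← hb, ← _root_.zpow_add, ← _root_.zpow_add, add_comm]

/-- The upper unitriangular matrices. -/
def uniSubgroup (p : ℕ) [Fact p.Prime] : Subgroup (SpecialLinearGroup (Fin 3) (ZMod p)) where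
  carrier := {M | ∃ (t x y : ZMod p), M = mk 1 t 0 1 x y (by ring)}
  one_mem' := ⟨0, 0, 0, by apply Subtype.ext; ext i j; fin_cases i <;> fin_cases j <;> simp [mk]⟩
  mul_mem' := by
    rintro _ _ ⟨t, x, y, rfl⟩ ⟨t', x', y', rfl⟩
    rw [mk_mul]
    exact ⟨t' + t, x' + t * y' + x, y' + y, mk_congr (by ring) (by ring) (by ring) (by ring) (by ring) (by ring)⟩
  inv_mem' := by
    rintro _ ⟨t, x, y, rfl⟩
    refine ⟨-t, t * y - x, -y, inv_eq_of_mul_eq_one_right ?_⟩
    rw [mk_mul]
    apply Subtype.ext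
    ext i j
    fin_cases i <;> fin_cases j <;> simp [mk] <;> ring

theorem uni_le : uniSubgroup p ≤ Cfsg.qd p := by
  rintro _ ⟨t, x, y, rfl⟩
  rw [qd_eq]; exact mk_mem ..

theorem isPGroup_uni : IsPGroup p ↥(uniSubgroup p) := by
  rintro ⟨_, t, x, y, rfl⟩
  refine ⟨2, Subtype.ext ?_⟩
  have h1 : ∀ (t x y : ZMod p) (k : ℕ), ∃ x',
      (mk 1 t 0 1 x y (by ring)) ^ k = mk 1 ((k : ZMod p) * t) 0 1 x' ((k : ZMod p) * y) (by ring) ∧
      (t = 0 → x' = k * x) := by
    intro t x y k
    induction k with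
    | zero => exact ⟨0, by rw [pow_zero]; apply Subtype.ext; ext i j; fin_cases i <;> fin_cases j <;> simp [mk],
        fun _ => by simp⟩
    | succ k ih =>
      obtain ⟨x', hx, hx'⟩ := ih
      refine ⟨x + k * t * y + x', ?_, fun ht => by rw [hx' ht, ht]; push_cast; ring⟩
      rw [pow_succ, hx, mk_mul]
      exact mk_congr (by ring) (by push_cast; ring) (by ring) (by ring) (by push_cast; ring)
        (by push_cast; ring)
  simp only [SubgroupClass.coe_pow, OneMemClass.coe_one]
  rw [sq, pow_mul]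
  obtain ⟨x', hx, -⟩ := h1 t x y p
  obtain ⟨x'', hx2, hx2'⟩ := h1 ((p : ZMod p) * t) x' ((p : ZMod p) * y) p
  rw [hx, hx2, hx2' (by simp)]
  apply Subtype.ext
  ext i j
  fin_cases i <;> fin_cases j <;> simp [mk]

theorem not_commute_uni :
    (mk (1 : ZMod p) 1 0 1 0 0 (by ring)) * mk 1 0 0 1 0 1 (by ring) ≠
      mk 1 0 0 1 0 1 (by ring) * mk 1 1 0 1 0 0 (by ring) := by
  rw [mk_mul, mk_mul]
  intro h
  have := congrArg (fun M : SpecialLinearGroup (Fin 3) (ZMod p) => M.1 0 2) h
  simp [mk] at this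

theorem not_involves {n : ℕ} (hn : n < p ^ 2) :
    ¬ Cfsg.Involves ↥(Cfsg.qd p) ↥(alternatingGroup (Fin n)) := by
  rintro ⟨K, R, hR, ⟨e⟩⟩
  let f : ↥K →* ↥(Cfsg.qd p) := e.toMonoidHom.comp (QuotientGroup.mk' (R.subgroupOf K))
  have hf : Function.Surjective f := e.surjective.comp (QuotientGroup.mk'_surjective _)
  obtain ⟨Q, hQ, hQU⟩ := CfsgLib.Inv54.exists_pGroup_map_eq (p := p) hf
    (isPGroup_uni.comap_of_injective (Cfsg.qd p).subtype Subtype.val_injective)
  have hmemU : ∀ (t x y : ZMod p), mk 1 t 0 1 x y (by ring) ∈ uniSubgroup p :=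
    fun t x y => ⟨t, x, y, rfl⟩
  obtain ⟨u, hu, hfu⟩ : (⟨_, uni_le (hmemU 1 0 0)⟩ : ↥(Cfsg.qd p)) ∈ Q.map f := by
    rw [hQU]; exact hmemU 1 0 0
  obtain ⟨v, hv, hfv⟩ : (⟨_, uni_le (hmemU 0 0 1)⟩ : ↥(Cfsg.qd p)) ∈ Q.map f := by
    rw [hQU]; exact hmemU 0 0 1
  let ι : ↥K →* Equiv.Perm (Fin n) := (alternatingGroup (Fin n)).subtype.comp K.subtype
  have hc := commute_of_lt_sq (p := p) (by simpa using hn) (hQ.map ι)
    ⟨ι u, u, hu, rfl⟩ ⟨ι v, v, hv, rfl⟩
  have huv : u * v = v * u := by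
    have hι : Function.Injective ι := Subtype.val_injective.comp Subtype.val_injective
    have he : ι u * ι v = ι v * ι u := congrArg Subtype.val hc
    exact hι (by rw [map_mul, map_mul, he])
  apply not_commute_uni (p := p)
  have := congrArg (fun z => ((f z : ↥(Cfsg.qd p)) : SpecialLinearGroup (Fin 3) (ZMod p))) huv
  simpa [map_mul, hfu, hfv] using this

theorem involves_of_subgroup {G H : Type*} [Group G] [Group H] (K : Subgroup G) (e : ↥K ≃* H) :
    Cfsg.Involves H G := by
  have h : (⊥ : Subgroup G).subgroupOf K = ⊥ := Subgroup.bot_subgroupOf K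
  haveI hn : ((⊥ : Subgroup G).subgroupOf K).Normal := by rw [h]; infer_instance
  exact ⟨K, ⊥, hn, ⟨((QuotientGroup.quotientMulEquivOfEq h).trans QuotientGroup.quotientBot).trans e⟩⟩

end CfsgLib.QdPerm
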